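import Groth.Agent.Sga4A.EtFam
import Mathlib.CategoryTheory.Sites.ConstantSheaf
import Mathlib.CategoryTheory.Sites.LocallySurjective
import Mathlib.CategoryTheory.Sites.LocallyInjective
import Mathlib.Topology.LocallyConstant.Basic

/-!
# The constant sheaf of sets on the small étale site: sections are locally constant functions

`C Y I` the constant sheaf, `cSect i U` its constant sections, `cGerm i ξ` their germs,
`cGerm_bijective` : `I ≃ Stk C ξ`; `famLC γ` the locally constant function of a family of germs,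
`ofLC f` the family of a locally constant function; `secPull_bijective_iff`, `secPull_injective_iff`.
-/

set_option autoImplicit false
universe u

open CategoryTheory CategoryTheory.Limits AlgebraicGeometry Opposite

namespace Groth.Agent.Etbc.H230.ConstSets

open EtDesc Groth.Agent.Sga4A.EtStalk

section Basic

variable (Y : Scheme.{u}) (I : Type u)

/-- The constant sheaf of sets with value `I`. -/
noncomputable abbrev C : Sh Y :=
  (constantSheaf Y.smallEtaleTopology (Type (u + 1))).obj (ULift.{u + 1} I)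

/-- The constant presheaf. -/
noncomputable abbrev cPre : (Y.Etale)ᵒᵖ ⥤ Type (u + 1) :=
  (Functor.const (Y.Etale)ᵒᵖ).obj (ULift.{u + 1} I)

/-- The sheafification map. -/
noncomputable def cMap : cPre Y I ⟶ (C Y I).obj :=
  toSheafify Y.smallEtaleTopology (cPre Y I)

variable {Y I}

/-- An element of `I` as a section of the constant presheaf. -/
noncomputable def cUp (i : I) (U : (Y.Etale)ᵒᵖ) : (cPre Y I).obj U := (ULift.up i : ULift.{u + 1} I)

/-- The constant section with value `i`. -/
noncomputable def cSect (i : I) (U : Y.Etale) : sect (C Y I) U :=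
  (cMap Y I).app (op U) (cUp i (op U))

theorem cSect_res (i : I) {U V : Y.Etale} (g : V ⟶ U) :
    (C Y I).obj.map g.op (cSect i U) = cSect i V := by
  have h := ConcreteCategory.congr_hom ((cMap Y I).naturality g.op) (cUp i (op U))
  exact h.symm

theorem exists_cSect (U : Y.Etale) (s : sect (C Y I) U) (x : U.left) :
    ∃ (V : Y.Etale) (g : V ⟶ U) (v : V.left) (i : I), g.left v = x ∧
      (C Y I).obj.map g.op s = cSect i V := by
  have h : Presheaf.imageSieve (cMap Y I) s ∈ Y.smallEtaleTopology U := by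
    have : Presheaf.IsLocallySurjective Y.smallEtaleTopology (cMap Y I) :=
      Presheaf.isLocallySurjective_toSheafify' _ _
    exact Presheaf.imageSieve_mem _ _ _
  rw [Etbase.EtSite.mem_iff] at h
  obtain ⟨V, g, v, ⟨t, ht⟩, hv⟩ := h x
  exact ⟨V, g, v, t.down, hv, ht.symm⟩

theorem cSect_injective {U : Y.Etale} (x : U.left) {i j : I}
    (h : (cSect i U : sect (C Y I) U) = cSect j U) : i = j := by
  have : Presheaf.IsLocallyInjective Y.smallEtaleTopology (cMap Y I) :=
    Presheaf.isLocallyInjective_toSheafify' _ _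
  have h2 := Presheaf.equalizerSieve_mem Y.smallEtaleTopology (cMap Y I) (X := op U)
    (cUp i (op U)) (cUp j (op U)) h
  rw [Etbase.EtSite.mem_iff] at h2
  obtain ⟨V, g, v, e, -⟩ := h2 x
  exact congrArg (ULift.down : ULift.{u + 1} I → I) e

end Basic

section Germ

variable {Y : Scheme.{u}} {I : Type u} {Ω : Type u} [Field Ω] [IsSepClosed Ω]

/-- The germ of a constant section. -/
noncomputable def cGerm (i : I) (ξ : Spec (.of Ω) ⟶ Y) : Stk (C Y I) ξ :=
  germTop (C Y I) ξ (cSect i _)

theorem germ_cSect (i : I) {ξ : Spec (.of Ω) ⟶ Y} {U : Y.Etale} (l : Spec (.of Ω) ⟶ U.left)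
    (hl : l ≫ U.hom = ξ) : germ (C Y I) l hl (cSect i U) = cGerm i ξ := by
  have h := germ_res' (C Y I) ((EtCore.topIsTerminal Y).from U) l hl (topPt ξ) (topPt_hom ξ) (by
    have h1 : ((EtCore.topIsTerminal Y).from U).left ≫ (EtCoh.top Y).hom = U.hom :=
      Over.w ((EtCore.topIsTerminal Y).from U).hom
    have h2 : ((EtCore.topIsTerminal Y).from U).left = U.hom :=
      (Category.comp_id _).symm.trans h1
    exact (congrArg (fun k => l ≫ k) h2).trans hl) (cSect i _)
  rw [cSect_res] at h
  exact h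

theorem cGerm_injective (ξ : Spec (.of Ω) ⟶ Y) :
    Function.Injective (fun i : I => cGerm i ξ) := by
  intro i j h
  obtain ⟨V, g, m, hm, e⟩ := (germ_eq_iff (C Y I) (topPt ξ) (topPt_hom ξ) _ _).1 h
  rw [cSect_res, cSect_res] at e
  exact cSect_injective (m default) e

theorem exists_cGerm (ξ : Spec (.of Ω) ⟶ Y) (σ : Stk (C Y I) ξ) : ∃ i : I, cGerm i ξ = σ := by
  obtain ⟨U, l, hl, s, rfl⟩ := exists_germ (C Y I) σ
  obtain ⟨V, g, v, i, hv, hi⟩ := exists_cSect U s (l default)
  obtain ⟨m, hm, -⟩ := exists_lift g l v hv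
  have hm' : m ≫ V.hom = ξ := by
    rw [← hl, ← hm, Category.assoc]
    exact congrArg _ (Over.w g.hom).symm
  refine ⟨i, ?_⟩
  rw [← germ_res' (C Y I) g m hm' l hl hm s, hi, germ_cSect]

theorem cGerm_bijective (ξ : Spec (.of Ω) ⟶ Y) :
    Function.Bijective (fun i : I => cGerm i ξ) :=
  ⟨cGerm_injective ξ, fun σ => exists_cGerm ξ σ⟩

end Germ

section Families

variable {Y P : Scheme.{u}} {I : Type u} {p : P ⟶ Y}

/-- The family attached to a locally constant function. -/
noncomputable def ofLC (p : P ⟶ Y) (f : LocallyConstant P I) : Fam (C Y I) p where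
  val η ξ _ := cGerm (f (η default)) ξ
  rep y := by
    let D : P.Opens := ⟨f ⁻¹' {f y}, f.isLocallyConstant.isOpen_fiber _⟩
    refine ⟨D.toScheme, D.ι, inferInstance, ⟨y, rfl⟩, rfl, EtCoh.top Y, D.ι ≫ p,
      Category.comp_id _, cSect (f y) _, ?_⟩
    intro Ω _ _ ζ ξ h h'
    rw [germ_cSect]
    congr 1
    have : (ζ ≫ D.ι) default ∈ D := (ζ default).2
    exact this

theorem ofLC_val (f : LocallyConstant P I) {Ω : Type u} [Field Ω] [IsSepClosed Ω]
    (η : Spec (.of Ω) ⟶ P) (ξ : Spec (.of Ω) ⟶ Y) (h : η ≫ p = ξ) :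
    (ofLC p f).val η ξ h = cGerm (f (η default)) ξ := rfl

/-- The constant family. -/
noncomputable abbrev cFam (p : P ⟶ Y) (i : I) : Fam (C Y I) p := ofLC p (LocallyConstant.const P i)

theorem exists_mem_agree (γ : Fam (C Y I) p) (x : P) : ∃ i, x ∈ Fam.Agree γ (cFam p i) := by
  obtain ⟨Ω, _, _, η, rfl⟩ := exists_geomPoint P x
  obtain ⟨i, hi⟩ := exists_cGerm (η ≫ p) (γ.val η _ rfl)
  refine ⟨i, ?_⟩
  rw [Fam.mem_agree_iff γ _ η _ rfl, ← hi]
  rfl

/-- The locally constant function attached to a family of germs of the constant sheaf. -/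
noncomputable def famFun (γ : Fam (C Y I) p) (x : P) : I := (exists_mem_agree γ x).choose

theorem val_eq (γ : Fam (C Y I) p) {Ω : Type u} [Field Ω] [IsSepClosed Ω]
    (η : Spec (.of Ω) ⟶ P) (ξ : Spec (.of Ω) ⟶ Y) (h : η ≫ p = ξ) :
    γ.val η ξ h = cGerm (famFun γ (η default)) ξ :=
  (Fam.mem_agree_iff γ _ η ξ h).1 (exists_mem_agree γ (η default)).choose_spec

theorem famFun_eq_iff (γ : Fam (C Y I) p) (x : P) (i : I) :
    famFun γ x = i ↔ x ∈ Fam.Agree γ (cFam p i) := by
  obtain ⟨Ω, _, _, η, rfl⟩ := exists_geomPoint P x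
  rw [Fam.mem_agree_iff γ _ η _ rfl, val_eq γ η _ rfl]
  exact (cGerm_injective (η ≫ p)).eq_iff.symm

/-- The locally constant function attached to a family of germs of the constant sheaf. -/
noncomputable def famLC (γ : Fam (C Y I) p) : LocallyConstant P I where
  toFun := famFun γ
  isLocallyConstant := by
    rw [IsLocallyConstant.iff_exists_open]
    intro x
    refine ⟨Fam.Agree γ (cFam p (famFun γ x)), Fam.isOpen_Agree _ _,
      (famFun_eq_iff γ x _).1 rfl, fun y hy => (famFun_eq_iff γ y _).2 hy⟩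

theorem famLC_apply (γ : Fam (C Y I) p) (x : P) : famLC γ x = famFun γ x := rfl

theorem val_eq' (γ : Fam (C Y I) p) {Ω : Type u} [Field Ω] [IsSepClosed Ω]
    (η : Spec (.of Ω) ⟶ P) (ξ : Spec (.of Ω) ⟶ Y) (h : η ≫ p = ξ) :
    γ.val η ξ h = cGerm (famLC γ (η default)) ξ := val_eq γ η ξ h

theorem famLC_ofLC (f : LocallyConstant P I) : famLC (ofLC p f) = f := by
  ext x
  obtain ⟨Ω, _, _, η, rfl⟩ := exists_geomPoint P x
  exact cGerm_injective (η ≫ p) ((val_eq' (ofLC p f) η _ rfl).symm.trans (ofLC_val f η _ rfl))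

end Families

section Sections

variable {Y : Scheme.{u}} {I : Type u}

/-- The locally constant function of a section. -/
noncomputable def sectLC {U : Y.Etale} (s : sect (C Y I) U) : LocallyConstant U.left I :=
  famLC (Fam.ofSect s)

theorem germ_eq_sectLC {U : Y.Etale} (s : sect (C Y I) U) {Ω : Type u} [Field Ω] [IsSepClosed Ω]
    (l : Spec (.of Ω) ⟶ U.left) (ξ : Spec (.of Ω) ⟶ Y) (h : l ≫ U.hom = ξ) :
    germ (C Y I) l h s = cGerm (sectLC s (l default)) ξ :=
  val_eq' (Fam.ofSect s) l ξ h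

/-- Sections of the constant sheaf are locally constant functions. -/
theorem sectLC_bijective (U : Y.Etale) :
    Function.Bijective (sectLC : sect (C Y I) U → LocallyConstant U.left I) := by
  constructor
  · intro s t h
    refine sect_ext_germ' _ U s t (fun Ω _ _ l => ?_)
    rw [germ_eq_sectLC s l _ rfl, germ_eq_sectLC t l _ rfl, h]
  · intro f
    obtain ⟨s, hs⟩ := Fam.exists_sect (ofLC U.hom f)
    refine ⟨s, ?_⟩
    ext x
    obtain ⟨Ω, _, _, l, rfl⟩ := exists_geomPoint _ x
    apply cGerm_injective (l ≫ U.hom)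
    have h1 := hs l _ rfl
    rw [germ_eq_sectLC s l _ rfl, ofLC_val] at h1
    exact h1

theorem sectLC_res {U V : Y.Etale} (g : V ⟶ U) (s : sect (C Y I) U) (x : V.left) :
    sectLC ((C Y I).obj.map g.op s) x = sectLC s (g.left x) := by
  obtain ⟨Ω, _, _, l, rfl⟩ := exists_geomPoint _ x
  have hw : g.left ≫ U.hom = V.hom := Over.w g.hom
  apply cGerm_injective (l ≫ V.hom)
  have e : (l ≫ g.left) ≫ U.hom = l ≫ V.hom := by rw [Category.assoc, hw]
  have h := germ_res' (C Y I) g l rfl (l ≫ g.left) e rfl s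
  rw [germ_eq_sectLC _ l _ rfl, germ_eq_sectLC s (l ≫ g.left) _ e] at h
  exact h

/-- The locally constant function of a global section. -/
noncomputable def topLC (s : sect (C Y I) (EtCoh.top Y)) : LocallyConstant Y I := sectLC s

theorem germTop_eq (s : sect (C Y I) (EtCoh.top Y)) {Ω : Type u} [Field Ω] [IsSepClosed Ω]
    (ξ : Spec (.of Ω) ⟶ Y) : germTop (C Y I) ξ s = cGerm (topLC s (ξ default)) ξ :=
  germ_eq_sectLC s (topPt ξ) ξ (topPt_hom ξ)

theorem topLC_bijective :
    Function.Bijective (topLC : sect (C Y I) (EtCoh.top Y) → LocallyConstant Y I) :=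
  sectLC_bijective (EtCoh.top Y)

variable {X : Scheme.{u}} (p : X ⟶ Y)

/-- The locally constant function of a global section of `p^* C`. -/
noncomputable def pullLC (s : sect ((pullSh p).obj (C Y I)) (EtCoh.top X)) : LocallyConstant X I :=
  famLC (Fam.ofTopSect s)

theorem germTop_pull_eq (s : sect ((pullSh p).obj (C Y I)) (EtCoh.top X)) {Ω : Type u} [Field Ω]
    [IsSepClosed Ω] (η : Spec (.of Ω) ⟶ X) (ξ : Spec (.of Ω) ⟶ Y) (e : η ≫ p = ξ) :
    germTop _ η s = pullStk' p (C Y I) η ξ e (cGerm (pullLC p s (η default)) ξ) := by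
  rw [← Fam.ofTopSect_val s η ξ e, val_eq' (Fam.ofTopSect s) η ξ e]
  rfl

theorem pullLC_bijective :
    Function.Bijective (pullLC p : sect ((pullSh p).obj (C Y I)) (EtCoh.top X) →
      LocallyConstant X I) := by
  constructor
  · intro s t h
    refine secPull_ext _ s t (fun Ω _ _ ξ => ?_)
    rw [germTop_pull_eq p s ξ _ rfl, germTop_pull_eq p t ξ _ rfl, h]
  · intro f
    obtain ⟨s, hs⟩ := Fam.exists_topSect (ofLC p f)
    refine ⟨s, ?_⟩
    ext x
    obtain ⟨Ω, _, _, η, rfl⟩ := exists_geomPoint _ x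
    apply cGerm_injective (η ≫ p)
    apply (pullStk' p (C Y I) η (η ≫ p) rfl).injective
    have h1 := hs η _ rfl
    rw [germTop_pull_eq p s η _ rfl, ofLC_val] at h1
    exact h1

theorem pullLC_secPull (s : sect (C Y I) (EtCoh.top Y)) :
    pullLC p (secPull p (C Y I) s) = (topLC s).comap ⟨p, p.continuous⟩ := by
  ext x
  obtain ⟨Ω, _, _, η, rfl⟩ := exists_geomPoint _ x
  apply cGerm_injective (η ≫ p)
  apply (pullStk' p (C Y I) η (η ≫ p) rfl).injective
  refine (germTop_pull_eq p (secPull p (C Y I) s) η _ rfl).symm.trans ?_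
  rw [germTop_secPull, germTop_eq]
  rfl

theorem secPull_comp_eq :
    pullLC p ∘ secPull p (C Y I) = (LocallyConstant.comap ⟨p, p.continuous⟩) ∘ topLC := by
  funext s
  exact pullLC_secPull p s

theorem secPull_bijective_iff : Function.Bijective (secPull p (C Y I)) ↔
    Function.Bijective (LocallyConstant.comap (Y := Y) (Z := I) (⟨p, p.continuous⟩ : C(X, Y))) := by
  rw [← Function.Bijective.of_comp_iff' (pullLC_bijective (I := I) p), secPull_comp_eq,
    Function.Bijective.of_comp_iff _ topLC_bijective]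

theorem secPull_injective_iff : Function.Injective (secPull p (C Y I)) ↔
    Function.Injective (LocallyConstant.comap (Y := Y) (Z := I) (⟨p, p.continuous⟩ : C(X, Y))) := by
  rw [← Function.Injective.of_comp_iff (pullLC_bijective (I := I) p).1, secPull_comp_eq]
  exact Function.Injective.of_comp_iff' _ topLC_bijective

end Sections

end Groth.Agent.Etbc.H230.ConstSets
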