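import Groth.Agent.Etbc.H230.Locus
import Groth.Prelude.Def_EtAcyc

/-!
# 0-acyclicity from preconnectedness of the preimages of locally closed irreducible subsets

`Conn g`: after every étale base change `g₁ : X₁ ⟶ Y₁` of `g`, all `g₁ ⁻¹' (closure {y} ∩ O)` (`O` open) are
preconnected. `isZeroAcyclic_of_conn`: a quasi-compact surjective `g` with `Conn g` is `0`-acyclic.
-/

set_option autoImplicit false
universe u

open CategoryTheory CategoryTheory.Limits AlgebraicGeometry Opposite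

namespace Groth.Agent.Etbc.H230.Back

open EtDesc Groth.Agent.Sga4A.EtStalk

/-- After every étale base change, the preimages of locally closed irreducible subsets are preconnected. -/
def Conn {X Y : Scheme.{u}} (g : X ⟶ Y) : Prop :=
  ∀ ⦃X₁ Y₁ : Scheme.{u}⦄ (g₁ : X₁ ⟶ Y₁) (b' : X₁ ⟶ X) (b : Y₁ ⟶ Y), IsPullback b' g₁ g b → Etale b →
    ∀ (y : Y₁) (O : Set Y₁), IsOpen O → _root_.IsPreconnected (g₁ ⁻¹' (closure {y} ∩ O))

theorem Conn.bc {X Y X₁ Y₁ : Scheme.{u}} {g : X ⟶ Y} (h : Conn g) {g₁ : X₁ ⟶ Y₁} {b' : X₁ ⟶ X}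
    {b : Y₁ ⟶ Y} (sq : IsPullback b' g₁ g b) [Etale b] : Conn g₁ := by
  intro X₂ Y₂ g₂ c' c hc hce
  exact h g₂ (c' ≫ b') (c ≫ b) (hc.paste_horiz sq) inferInstance

section Main

variable {X Y : Scheme.{u}} (g : X ⟶ Y)

theorem isPullback_bc (U : Y.Etale) :
    IsPullback ((EtCoh.bc g).obj U).hom (bcFst g U) g U.hom :=
  (IsPullback.of_hasPullback U.hom g).flip

theorem exists_local [QuasiCompact g] [Surjective g] (hg : Conn g) (F : Sh Y) (U : Y.Etale)
    (s' : sect ((pullSh g).obj F) ((EtCoh.bc g).obj U)) (x : U.left) :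
    ∃ (W : Y.Etale) (a : W ⟶ U) (w : W.left) (s : sect F W), a.left w = x ∧
      pullSect g F s = ((pullSh g).obj F).obj.map ((EtCoh.bc g).map a).op s' := by
  have hsU : Surjective (bcFst g U) := inferInstanceAs (Surjective (pullback.fst U.hom g))
  obtain ⟨z, rfl⟩ := (bcFst g U).surjective x
  let γ : Fam F (bcFst g U ≫ U.hom) :=
    (Fam.ofPullSect (V := (EtCoh.bc g).obj U) s').congr (bc_condition g U).symm
  have hγ : ∀ (Ω : Type u) [Field Ω] [IsSepClosed Ω] (η : Spec (.of Ω) ⟶ ((EtCoh.bc g).obj U).left)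
      (ζ : Spec (.of Ω) ⟶ X) (ξ : Spec (.of Ω) ⟶ Y) (e : η ≫ bcFst g U ≫ U.hom = ξ)
      (e₁ : η ≫ ((EtCoh.bc g).obj U).hom = ζ) (e₂ : ζ ≫ g = ξ),
      pullStk' g F ζ ξ e₂ (γ.val η ξ e) = germ _ η e₁ s' := by
    intro Ω _ _ η ζ ξ e e₁ e₂
    have h1 := Fam.congr_val (Fam.ofPullSect (V := (EtCoh.bc g).obj U) s') (bc_condition g U).symm
      η ξ e
    have h2 := Fam.ofPullSect_val s' η ζ ξ (by rw [← e, bc_condition]) e₁ e₂
    rw [show γ.val η ξ e = _ from h1.trans h2, Equiv.apply_symm_apply]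
  obtain ⟨V, j, hj, v, rfl, U₁, k, hk, t, ht⟩ := γ.rep z
  let P : Y.Etale := Fam.prodEt U U₁
  let aU : P ⟶ U := Fam.prodEtFst U U₁
  let a₁ : P ⟶ U₁ := Fam.prodEtSnd U U₁
  let XP := ((EtCoh.bc g).obj P).left
  let gP : XP ⟶ P.left := bcFst g P
  let cP : XP ⟶ ((EtCoh.bc g).obj U).left := ((EtCoh.bc g).map aU).left
  have hcP : cP ≫ bcFst g U = gP ≫ aU.left := bc_map_fst g aU
  have haU : aU.left ≫ U.hom = P.hom := Over.w aU.hom
  have ha₁ : a₁.left ≫ U₁.hom = P.hom := Over.w a₁.hom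
  let γP : Fam F (gP ≫ P.hom) := (γ.pull cP).congr (by
    rw [← haU, ← Category.assoc, hcP, Category.assoc])
  have hγP : ∀ (Ω : Type u) [Field Ω] [IsSepClosed Ω] (η : Spec (.of Ω) ⟶ XP)
      (ξ : Spec (.of Ω) ⟶ Y) (e : η ≫ gP ≫ P.hom = ξ) (e' : (η ≫ cP) ≫ bcFst g U ≫ U.hom = ξ),
      γP.val η ξ e = γ.val (η ≫ cP) ξ e' := by
    intro Ω _ _ η ξ e e'
    exact Fam.congr_val (γ.pull cP) _ η ξ e
  let tP : sect F P := F.obj.map a₁.op t
  let δ : Fam F P.hom := Fam.ofSect tP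
  -- the point
  let r : V ⟶ P.left := pullback.lift (j ≫ bcFst g U) k (by rw [Category.assoc, hk])
  have hr : r ≫ aU.left = j ≫ bcFst g U := pullback.lift_fst _ _ _
  have hr₁ : r ≫ a₁.left = k := pullback.lift_snd _ _ _
  let r' : V ⟶ XP := pullback.lift r (j ≫ ((EtCoh.bc g).obj U).hom) (by
    rw [← haU, reassoc_of% hr, Category.assoc, bc_condition])
  have hr' : r' ≫ gP = r := pullback.lift_fst _ _ _
  have hr'₂ : r' ≫ ((EtCoh.bc g).obj P).hom = j ≫ ((EtCoh.bc g).obj U).hom :=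
    pullback.lift_snd _ _ _
  have hr'c : r' ≫ cP = j := by
    apply hom_ext_bc
    · rw [Category.assoc, hcP, reassoc_of% hr', hr]
    · rw [Category.assoc, bc_map_hom, hr'₂]
  have hK : r' v ∈ Fam.Agree γP (δ.pull gP) := by
    obtain ⟨Ω, _, _, ζ, rfl⟩ := exists_geomPoint V v
    rw [← Scheme.Hom.comp_apply, Fam.mem_agree_iff _ _ (ζ ≫ r') _ rfl]
    have e₁ : ((ζ ≫ r') ≫ cP) ≫ bcFst g U ≫ U.hom = (ζ ≫ r') ≫ gP ≫ P.hom := by
      rw [← haU]
      simp only [Category.assoc]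
      rw [reassoc_of% hcP]
    rw [hγP Ω (ζ ≫ r') _ rfl e₁]
    have e₂ : (ζ ≫ j) ≫ bcFst g U ≫ U.hom = (ζ ≫ r') ≫ gP ≫ P.hom := by
      rw [← e₁]; congr 1; rw [Category.assoc, hr'c]
    have e₃ : (ζ ≫ k) ≫ U₁.hom = (ζ ≫ r') ≫ gP ≫ P.hom := by
      rw [← e₂, Category.assoc, hk, Category.assoc]
    rw [γ.val_congr (show (ζ ≫ r') ≫ cP = ζ ≫ j by rw [Category.assoc, hr'c]) _ e₁ e₂, ht ζ _ e₂ e₃]
    change _ = germ F ((ζ ≫ r') ≫ gP) _ tP
    symm
    apply germ_res' F a₁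
    rw [Category.assoc, Category.assoc, reassoc_of% hr', hr₁]
  have hqc : QuasiCompact gP := inferInstanceAs (QuasiCompact (pullback.fst P.hom g))
  have hsP : Surjective gP := inferInstanceAs (Surjective (pullback.fst P.hom g))
  have hconn : ∀ (y : P.left) (O : Set P.left), IsOpen O →
      _root_.IsPreconnected (gP ⁻¹' (closure {y} ∩ O)) :=
    hg gP _ P.hom (isPullback_bc g P) inferInstance
  have hgr : gP (r' v) = r v := by rw [← Scheme.Hom.comp_apply, hr']
  let T : Set P.left := {y | gP ⁻¹' {y} ⊆ Fam.Agree γP (δ.pull gP)}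
  have hT : IsOpen T := Locus.isOpen_agree_base gP P.hom hconn γP δ
  have hvT : r v ∈ T := by
    rcases Locus.agree_dichotomy gP P.hom hconn γP δ (r v) with h | ⟨O, hO, hyO, hdis⟩
    · exact h
    · exfalso
      refine Set.disjoint_left.1 hdis ?_ hK
      refine ⟨?_, ?_⟩
      · rw [hgr]; exact subset_closure rfl
      · rw [hgr]; exact hyO
  let D : P.left.Opens := ⟨T, hT⟩
  refine ⟨openEt P D, openEtι P D ≫ aU, ⟨r v, hvT⟩, F.obj.map (openEtι P D).op tP, ?_, ?_⟩
  · have h1 : (openEtι P D ≫ aU).left = D.ι ≫ aU.left := rfl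
    have h2 : (openEtι P D ≫ aU).left (⟨r v, hvT⟩ : D) = aU.left (r v) :=
      Scheme.Hom.comp_apply D.ι aU.left (⟨r v, hvT⟩ : D)
    refine h2.trans ?_
    rw [← Scheme.Hom.comp_apply, hr, Scheme.Hom.comp_apply]
  · refine sect_ext_germ' _ _ _ _ (fun Ω _ _ m => ?_)
    have c₁ := germ_pullSect g F (F.obj.map (openEtι P D).op tP) m _ rfl _ rfl
    rw [c₁]
    set c : ((EtCoh.bc g).obj (openEt P D)).left ⟶ XP := ((EtCoh.bc g).map (openEtι P D)).left
    have hc : c ≫ gP = bcFst g (openEt P D) ≫ D.ι := bc_map_fst g (openEtι P D)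
    have hc₂ : c ≫ ((EtCoh.bc g).obj P).hom = ((EtCoh.bc g).obj (openEt P D)).hom :=
      bc_map_hom g (openEtι P D)
    have hmap : ((EtCoh.bc g).map (openEtι P D ≫ aU)).left = c ≫ cP := by
      rw [(EtCoh.bc g).map_comp]
      rfl
    have hm' : (m ≫ c) ≫ cP = m ≫ ((EtCoh.bc g).map (openEtι P D ≫ aU)).left := by
      rw [hmap, Category.assoc]
    have e₁ : ((m ≫ c) ≫ cP) ≫ ((EtCoh.bc g).obj U).hom =
        m ≫ ((EtCoh.bc g).obj (openEt P D)).hom := by
      rw [Category.assoc, Category.assoc, bc_map_hom, hc₂]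
    have c₂ := germ_res' ((pullSh g).obj F) ((EtCoh.bc g).map (openEtι P D ≫ aU)) m rfl
      ((m ≫ c) ≫ cP) e₁ hm'.symm s'
    rw [c₂]
    have hξ : ((m ≫ c) ≫ cP) ≫ bcFst g U ≫ U.hom = (m ≫ bcFst g (openEt P D)) ≫ (openEt P D).hom := by
      have h1 : (openEt P D).hom = D.ι ≫ P.hom := rfl
      rw [h1, ← haU]
      simp only [Category.assoc]
      rw [reassoc_of% hcP, reassoc_of% hc]
      rfl
    rw [← hγ Ω ((m ≫ c) ≫ cP) _ _ hξ e₁ (by
      rw [Category.assoc, Category.assoc, bc_condition])]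
    congr 1
    have hξ₂ : (m ≫ c) ≫ gP ≫ P.hom = (m ≫ bcFst g (openEt P D)) ≫ (openEt P D).hom := by
      have h1 : (openEt P D).hom = D.ι ≫ P.hom := rfl
      rw [h1]
      simp only [Category.assoc]
      rw [reassoc_of% hc]
      rfl
    have hmem : (m ≫ c) default ∈ Fam.Agree γP (δ.pull gP) := by
      have h1 : gP ((m ≫ c) default) ∈ T := by
        have h2 : gP ((m ≫ c) default) = D.ι ((m ≫ bcFst g (openEt P D)) default : D) := by
          rw [← Scheme.Hom.comp_apply, Category.assoc, hc, ← Category.assoc]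
          rfl
        rw [h2]
        exact ((m ≫ bcFst g (openEt P D)) default : D).2
      exact h1 rfl
    rw [Fam.mem_agree_iff γP (δ.pull gP) (m ≫ c) _ hξ₂] at hmem
    rw [← hγP Ω (m ≫ c) _ hξ₂ hξ, hmem]
    change _ = germ F ((m ≫ c) ≫ gP) _ tP
    apply germ_res' F (openEtι P D)
    rw [Category.assoc, Category.assoc, hc]
    rfl

theorem pullSect_bijective [QuasiCompact g] [Surjective g] (hg : Conn g) (F : Sh Y) (U : Y.Etale) :
    Function.Bijective (pullSect g F (U := U)) := by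
  have hs : ∀ V : Y.Etale, Function.Surjective (bcFst g V) := fun V => by
    have : Surjective (bcFst g V) := inferInstanceAs (Surjective (pullback.fst V.hom g))
    exact (bcFst g V).surjective
  refine ⟨pullSect_injective g F (hs U), fun s' => ?_⟩
  exact app_surjective_of_local ((adjSh g).unit.app F) (fun V => pullSect_injective g F (hs V)) U s'
    (exists_local g hg F U s')

theorem isIso_unit [QuasiCompact g] [Surjective g] (hg : Conn g) (F : Sh Y) :
    IsIso ((adjSh g).unit.app F) :=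
  isIso_of_bijective _ (fun U => pullSect_bijective g hg F U)

/-- A quasi-compact surjective morphism such that the preimages of locally closed irreducible subsets are
preconnected after every étale base change is `0`-acyclic. -/
theorem isZeroAcyclic_of_conn [QuasiCompact g] [Surjective g] (hg : Conn g) : EtAcyc.IsZeroAcyclic g := by
  intro V F
  have h1 : IsPullback (pullback.snd V.hom g) (EtAcyc.prj g V) g V.hom :=
    (IsPullback.of_hasPullback V.hom g).flip
  exact isIso_unit (EtAcyc.prj g V) (hg.bc h1) F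

end Main

end Groth.Agent.Etbc.H230.Back
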