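import Groth.Agent.Etbc.H230.ConstSets
import Groth.Agent.Etbc.H235.BCSec
import Groth.Agent.Topos.H572.BCSh
import Groth.Agent.Sga4A.BCIntegral
import Groth.Prelude.Def_EtAcyc
import Mathlib.AlgebraicGeometry.ZariskisMainTheorem
import Mathlib.AlgebraicGeometry.PullbackCarrier

/-!
# Locally constant functions descend along base changes of a 0-acyclic morphism

`bijective_secPull_of_isPullback`: if `Γ(V, h_* F) ≅ Γ(X₀, g₀^* h_* F)` for `h` integral then
`Γ(Y'', F) ≅ Γ(X'', g''^* F)`. `comap_bijective_of_isZeroAcyclic`: a `0`-acyclic surjective `g` induces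
bijections on locally constant functions after every locally quasi-finite base change.
-/

set_option autoImplicit false
universe u

open CategoryTheory CategoryTheory.Limits AlgebraicGeometry Opposite

namespace Groth.Agent.Etbc.H230.Forth

open EtDesc Groth.Agent.Sga4A.EtStalk

section Integral

variable {V X₀ X₂ Y₂ : Scheme.{u}} (h : Y₂ ⟶ V) (g₀ : X₀ ⟶ V) (h' : X₂ ⟶ X₀) (g₂ : X₂ ⟶ Y₂)

theorem map_bijective {X : Scheme.{u}} (F : Sh X) {U U' : X.Etale} (e : U ≅ U') :
    Function.Bijective (F.obj.map e.hom.op) := by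
  have : IsIso (F.obj.map e.hom.op) := inferInstance
  exact (isIso_iff_bijective _).1 this

theorem bijective_secPull_of_isPullback [IsIntegralHom h] (sq : IsPullback g₂ h' h g₀) (F : Sh Y₂)
    (hb : Function.Bijective (secPull g₀ ((pushSh h).obj F))) :
    Function.Bijective (secPull g₂ F) := by
  have hiso : IsIso (EtBC.baseChange0Sh h g₀ h' g₂ sq.w F) :=
    Groth.Agent.Topos.H572.BCSh.isIso_baseChange0Sh_of_bcsurj h g₀ h' g₂
      (Groth.Agent.Sga4A.BCIntegral.bcsurj_of_isIntegralHom h) sq F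
  have h1 : Function.Bijective ((EtBC.baseChange0Sh h g₀ h' g₂ sq.w F).hom.app
      (op (EtCoh.top X₀))) := by
    have : IsIso ((sheafToPresheaf _ _).map (EtBC.baseChange0Sh h g₀ h' g₂ sq.w F)) := inferInstance
    have : IsIso (EtBC.baseChange0Sh h g₀ h' g₂ sq.w F).hom := this
    have : IsIso ((EtBC.baseChange0Sh h g₀ h' g₂ sq.w F).hom.app (op (EtCoh.top X₀))) :=
      inferInstance
    exact (isIso_iff_bijective _).1 this
  have h2 := map_bijective F (EtCore.bcTopIso h)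
  have h3 := map_bijective ((pullSh g₂).obj F) (EtCore.bcTopIso h')
  have key : (((pullSh g₂).obj F).obj.map (EtCore.bcTopIso h').hom.op) ∘ (secPull g₂ F) =
      (((EtBC.baseChange0Sh h g₀ h' g₂ sq.w F).hom.app (op (EtCoh.top X₀))) ∘
        (secPull g₀ ((pushSh h).obj F)) ∘ (F.obj.map (EtCore.bcTopIso h).hom.op)) := by
    funext s
    exact (Groth.Agent.Etbc.H235.BCSec.baseChange0Sh_secPull h g₀ h' g₂ sq.w F s).symm
  rw [← Function.Bijective.of_comp_iff' h3, key]
  exact h1.comp (hb.comp h2)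

end Integral

section Acyc

variable {X Y : Scheme.{u}} (g : X ⟶ Y)

theorem secPull_bijective_of_isIso (F : Sh Y) [IsIso ((adjSh g).unit.app F)] :
    Function.Bijective (secPull g F) := by
  have h1 : Function.Bijective (((adjSh g).unit.app F).hom.app (op (EtCoh.top Y))) := by
    have : IsIso ((sheafToPresheaf _ _).map ((adjSh g).unit.app F)) := inferInstance
    have : IsIso ((adjSh g).unit.app F).hom := this
    have : IsIso (((adjSh g).unit.app F).hom.app (op (EtCoh.top Y))) := inferInstance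
    exact (isIso_iff_bijective _).1 this
  exact (map_bijective ((pullSh g).obj F) (EtCore.bcTopIso g).symm).comp h1

theorem secPull_prj_bijective (hg : EtAcyc.IsZeroAcyclic g) (V : Y.Etale) (F : Sh V.left) :
    Function.Bijective (secPull (EtAcyc.prj g V) F) :=
  haveI := hg V F
  secPull_bijective_of_isIso _ F

end Acyc

section Glue

variable {X' Y' : Scheme.{u}} (p : X' ⟶ Y') [Surjective p] {I : Type u}

/-- Gluing of descended locally constant functions for étale coverings of the base. -/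
theorem exists_descend_lc (f : LocallyConstant X' I)
    (H : ∀ y : Y', ∃ (X₂ Y₂ : Scheme.{u}) (c : X₂ ⟶ X') (p₂ : X₂ ⟶ Y₂) (e : Y₂ ⟶ Y')
      (_ : IsPullback c p₂ p e) (_ : AlgebraicGeometry.Etale e) (y₂ : Y₂) (f₂ : LocallyConstant Y₂ I),
      e y₂ = y ∧ ∀ x, f₂ (p₂ x) = f (c x)) :
    ∃ f' : LocallyConstant Y' I, ∀ x, f' (p x) = f x := by
  have hconst : ∀ x₁ x₂ : X', p x₁ = p x₂ → f x₁ = f x₂ := by
    intro x₁ x₂ h
    obtain ⟨X₂, Y₂, c, p₂, e, sq, _, y₂, f₂, hy₂, hf₂⟩ := H (p x₁)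
    obtain ⟨z₁, hz₁, hz₁'⟩ := AlgebraicGeometry.Scheme.exists_preimage_of_isPullback sq x₁ y₂ hy₂.symm
    obtain ⟨z₂, hz₂, hz₂'⟩ := AlgebraicGeometry.Scheme.exists_preimage_of_isPullback sq x₂ y₂
      (h.symm.trans hy₂.symm)
    rw [← hz₁, ← hz₂, ← hf₂, ← hf₂, hz₁', hz₂']
  let F : Y' → I := fun y => f (p.surjective y).choose
  have hF : ∀ x, F (p x) = f x := fun x => hconst _ _ (p.surjective (p x)).choose_spec
  refine ⟨⟨F, ?_⟩, hF⟩
  rw [IsLocallyConstant.iff_exists_open]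
  intro y
  obtain ⟨X₂, Y₂, c, p₂, e, sq, _, y₂, f₂, rfl, hf₂⟩ := H y
  have key : ∀ w : Y₂, F (e w) = f₂ w := by
    intro w
    obtain ⟨x, hx⟩ := p.surjective (e w)
    obtain ⟨z, hz, hz'⟩ := AlgebraicGeometry.Scheme.exists_preimage_of_isPullback sq x w hx
    rw [← hx, hF, ← hz, ← hf₂, hz']
  refine ⟨e '' (f₂ ⁻¹' {f₂ y₂}), ?_, ⟨y₂, rfl, rfl⟩, ?_⟩
  · exact (AlgebraicGeometry.Scheme.Hom.isOpenMap e) _ (f₂.isLocallyConstant.isOpen_fiber _)
  · rintro _ ⟨w, hw, rfl⟩
    rw [key, key]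
    exact hw

end Glue

section Main

variable {X Y : Scheme.{u}} (g : X ⟶ Y)

/-- Étale localisation of a locally quasi-finite morphism. -/
theorem exists_etale_finite {Y' : Scheme.{u}} (i : Y' ⟶ Y) [LocallyQuasiFinite i]
    [LocallyOfFiniteType i] (y : Y') :
    ∃ (V : Y.Etale) (Y₂ : Scheme.{u}) (h : Y₂ ⟶ V.left) (e : Y₂ ⟶ Y') (y₂ : Y₂),
      IsFinite h ∧ AlgebraicGeometry.Etale e ∧ e y₂ = y ∧ e ≫ i = h ≫ V.hom := by
  obtain ⟨A, hA, hyA⟩ : ∃ A : Y.Opens, IsAffineOpen A ∧ i y ∈ A := by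
    obtain ⟨_, ⟨A, hA, rfl⟩, hyA, -⟩ := Y.isBasis_affineOpens.exists_subset_of_mem_open
      (Set.mem_univ (i y)) isOpen_univ
    exact ⟨A, hA, hyA⟩
  obtain ⟨B, hB, hyB, hBA⟩ : ∃ B : Y'.Opens, IsAffineOpen B ∧ y ∈ B ∧ B ≤ i ⁻¹ᵁ A := by
    obtain ⟨_, ⟨B, hB, rfl⟩, hyB, hBA⟩ :=
      Y'.isBasis_affineOpens.exists_subset_of_mem_open hyA (i ⁻¹ᵁ A).2
    exact ⟨B, hB, hyB, hBA⟩
  have : IsAffine A.toScheme := hA
  have : IsAffine B.toScheme := hB
  let f : B.toScheme ⟶ A.toScheme := i.resLE A B hBA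
  have hf : f ≫ A.ι = B.ι ≫ i := Scheme.Hom.resLE_comp_ι _ _
  have hqf : LocallyQuasiFinite f := inferInstance
  have hft : LocallyOfFiniteType f := inferInstance
  let yB : B.toScheme := ⟨y, hyB⟩
  obtain ⟨U, u, hu, -, V, W, v, -, hfin, hv⟩ := exists_etale_isCompl_of_quasiFiniteAt f rfl
    (f.quasiFiniteAt yB)
  refine ⟨Scheme.Etale.mk (u ≫ A.ι), V.toScheme, V.ι ≫ pullback.snd f u,
    V.ι ≫ pullback.fst f u ≫ B.ι, v, hfin, inferInstance, ?_, ?_⟩
  · have h1 : (V.ι ≫ pullback.fst f u ≫ B.ι) v = B.ι (pullback.fst f u v.1) := by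
      rw [Scheme.Hom.comp_apply, Scheme.Hom.comp_apply]
      rfl
    rw [h1, hv]
    rfl
  · change (V.ι ≫ pullback.fst f u ≫ B.ι) ≫ i = (V.ι ≫ pullback.snd f u) ≫ (u ≫ A.ι)
    rw [Category.assoc, Category.assoc, ← hf, pullback.condition_assoc, Category.assoc]

theorem comap_bijective_of_isZeroAcyclic (hg : EtAcyc.IsZeroAcyclic g) [Surjective g] (I : Type u)
    {Y' : Scheme.{u}} (i : Y' ⟶ Y) [LocallyQuasiFinite i] [LocallyOfFiniteType i] :
    Function.Bijective (LocallyConstant.comap (Y := Y') (Z := I)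
      (⟨pullback.snd g i, (pullback.snd g i).continuous⟩ : C(↥(pullback g i), Y'))) := by
  set p := pullback.snd g i with hp
  have hps : Surjective p := inferInstance
  refine ⟨fun a b hab => ?_, fun f => ?_⟩
  · ext y
    obtain ⟨x, rfl⟩ := p.surjective y
    exact congrArg (fun (c : LocallyConstant ↥(pullback g i) I) => c x) hab
  · obtain ⟨f', hf'⟩ := exists_descend_lc p f (by
      intro y
      obtain ⟨V, Y₂, h, e, y₂, hfin, he, hy, hcomm⟩ := exists_etale_finite i y
      let g₀ := EtAcyc.prj g V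
      let X₂ := pullback h g₀
      let p₂ : X₂ ⟶ Y₂ := pullback.fst h g₀
      let h' : X₂ ⟶ pullback V.hom g := pullback.snd h g₀
      have sq₁ : IsPullback p₂ h' h g₀ := IsPullback.of_hasPullback h g₀
      have sq₀ : IsPullback (pullback.fst V.hom g) (pullback.snd V.hom g) V.hom g :=
        IsPullback.of_hasPullback V.hom g
      -- the outer square X₂ → X over Y₂ → Y
      have sqo : IsPullback (h' ≫ pullback.snd V.hom g) p₂ g (e ≫ i) := by
        rw [hcomm]
        exact sq₁.flip.paste_horiz sq₀.flip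
      let c : X₂ ⟶ pullback g i := pullback.lift (h' ≫ pullback.snd V.hom g) (p₂ ≫ e) (by
        rw [sqo.w, Category.assoc])
      have hc₁ : c ≫ pullback.fst g i = h' ≫ pullback.snd V.hom g := pullback.lift_fst _ _ _
      have hc₂ : c ≫ p = p₂ ≫ e := pullback.lift_snd _ _ _
      have sq : IsPullback c p₂ p e := by
        refine IsPullback.of_right ?_ hc₂ (IsPullback.of_hasPullback g i)
        rw [hc₁]
        exact sqo
      have hb := bijective_secPull_of_isPullback h g₀ h' p₂ sq₁ (ConstSets.C Y₂ I)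
        (secPull_prj_bijective g hg V _)
      rw [ConstSets.secPull_bijective_iff] at hb
      obtain ⟨f₂, hf₂⟩ := hb.2 (f.comap ⟨c, c.continuous⟩)
      refine ⟨X₂, Y₂, c, p₂, e, sq, he, y₂, f₂, hy, fun x => ?_⟩
      exact congrArg (fun (c : LocallyConstant X₂ I) => c x) hf₂)
    refine ⟨f', ?_⟩
    ext x
    exact hf' x

end Main

end Groth.Agent.Etbc.H230.Forth
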