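import Groth.Agent.Sga4A.EtFam
import Groth.Agent.Grpsch.ClosureImage
import Groth.Agent.Sga4A.IntLift2
import Mathlib.AlgebraicGeometry.Stalk
import Mathlib.AlgebraicGeometry.Morphisms.QuasiFinite
import Mathlib.AlgebraicGeometry.Morphisms.UniversallyOpen

/-!
# The agreement locus of germ families: openness on the base

Let `g : X ⟶ Y` be quasi-compact surjective, `b : Y ⟶ W`, `F` a sheaf of sets on `W`, `γ` a germ family along
`g ≫ b` and `δ` a germ family along `b`. If `g ⁻¹' (closure {y} ∩ O)` is preconnected for every point `y` and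
open `O`, the agreement locus of `γ` and `δ.pull g` is saturated and the set of points of `Y` above which
`γ` and `δ` agree is open.
-/

set_option autoImplicit false
universe u

open CategoryTheory CategoryTheory.Limits AlgebraicGeometry Opposite

namespace Groth.Agent.Etbc.H230.Locus

open EtDesc Groth.Agent.Sga4A.EtStalk

section Top

variable {X Y : Scheme.{u}} (g : X ⟶ Y)

/-- The image of a closed set among the generizations of a point is quasi-compact. -/
theorem isCompact_gen [QuasiCompact g] {C : Set X} (hC : IsClosed C) (p : Y) :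
    IsCompact {y : Y | y ⤳ p ∧ ∃ x ∈ C, g x = y} := by
  let q := pullback.fst g (Y.fromSpecStalk p)
  have : CompactSpace ↥(pullback g (Y.fromSpecStalk p)) :=
    QuasiCompact.compactSpace_of_compactSpace (pullback.snd g (Y.fromSpecStalk p))
  have h1 : IsCompact (q ⁻¹' C) := (hC.preimage q.continuous).isCompact
  have h2 := h1.image (g.continuous.comp q.continuous)
  convert h2 using 1
  ext y
  constructor
  · rintro ⟨hy, x, hx, rfl⟩
    have : g x ∈ Set.range (Y.fromSpecStalk p) := by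
      rw [Scheme.range_fromSpecStalk]; exact hy
    obtain ⟨z, hz⟩ := this
    obtain ⟨w, hw1, hw2⟩ := Scheme.Pullback.exists_preimage_pullback (f := g)
      (g := Y.fromSpecStalk p) x z hz.symm
    refine ⟨w, ?_, ?_⟩
    · change q w ∈ C
      rw [show q w = x from hw1]; exact hx
    · change g (q w) = g x
      rw [show q w = x from hw1]
  · rintro ⟨w, hw, rfl⟩
    refine ⟨?_, q w, hw, rfl⟩
    have h3 : g (q w) = Y.fromSpecStalk p (pullback.snd g (Y.fromSpecStalk p) w) := by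
      rw [← Scheme.Hom.comp_apply, ← Scheme.Hom.comp_apply, pullback.condition]
    have : g (q w) ∈ Set.range (Y.fromSpecStalk p) := ⟨_, h3.symm⟩
    rw [Scheme.range_fromSpecStalk] at this
    exact this

/-- A nonempty quasi-compact subset of a `T₀` space has a point closed in it. -/
theorem exists_closed_point {T : Type*} [TopologicalSpace T] [T0Space T] {A : Set T}
    (hA : IsCompact A) (hne : A.Nonempty) : ∃ v ∈ A, ∀ w ∈ A, v ⤳ w → w = v := by
  have : CompactSpace A := isCompact_iff_compactSpace.1 hA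
  have : Nonempty A := hne.to_subtype
  obtain ⟨v, -, hv⟩ := (isClosed_univ (X := A)).exists_closed_singleton Set.univ_nonempty
  refine ⟨v.1, v.2, fun w hw h => ?_⟩
  have h1 : v ⤳ (⟨w, hw⟩ : A) := by
    rw [Topology.IsInducing.subtypeVal.specializes_iff.symm]
    exact h
  have h2 := h1.mem_closed hv rfl
  exact congrArg Subtype.val h2

/-- Points of the fibres of a locally quasi-finite morphism are isolated in their fibre. -/
theorem exists_isOpen_fibre {P : Scheme.{u}} (f : P ⟶ Y) [LocallyQuasiFinite f] (u : P) :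
    ∃ O : Set P, IsOpen O ∧ u ∈ O ∧ ∀ v ∈ O, f v = f u → v = u := by
  have h := f.isDiscrete_preimage_singleton (f u)
  have h2 : DiscreteTopology ↥(f ⁻¹' {f u}) := h.to_subtype
  have h3 : IsOpen ({⟨u, rfl⟩} : Set ↥(f ⁻¹' {f u})) := isOpen_discrete _
  rw [isOpen_induced_iff] at h3
  obtain ⟨O, hO, hO'⟩ := h3
  refine ⟨O, hO, ?_, fun v hv hvu => ?_⟩
  · have : (⟨u, rfl⟩ : ↥(f ⁻¹' {f u})) ∈ Subtype.val ⁻¹' O := by rw [hO']; rfl
    exact this
  · have : (⟨v, hvu⟩ : ↥(f ⁻¹' {f u})) ∈ Subtype.val ⁻¹' O := hv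
    rw [hO'] at this
    exact congrArg Subtype.val this

end Top

section Agree

variable {X Y W : Scheme.{u}} (g : X ⟶ Y) (b : Y ⟶ W) {F : Sh W}

/-- If `γ` and `δ` disagree at `x`, they disagree at all points near `x` lying above specializations of
`g x`. -/
theorem exists_nhd_not_agree (γ : Fam F (g ≫ b)) (δ : Fam F b) (x : X)
    (hx : x ∉ Fam.Agree γ (δ.pull g)) :
    ∃ N : Set X, IsOpen N ∧ x ∈ N ∧ ∀ x' ∈ N, g x ⤳ g x' → x' ∉ Fam.Agree γ (δ.pull g) := by
  obtain ⟨V, j, hj, v, rfl, U, k, hk, t, ht⟩ := γ.rep x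
  let P := pullback U.hom b
  let pY : P ⟶ Y := pullback.snd U.hom b
  let pU : P ⟶ U.left := pullback.fst U.hom b
  have hP : pU ≫ U.hom = pY ≫ b := pullback.condition
  let δP : Fam F (pY ≫ b) := δ.pull pY
  let tP : Fam F (pY ≫ b) := ((Fam.ofSect t).pull pU).congr hP
  let r : V ⟶ P := pullback.lift k (j ≫ g) (by rw [hk, Category.assoc])
  have hrU : r ≫ pU = k := pullback.lift_fst _ _ _
  have hrY : r ≫ pY = j ≫ g := pullback.lift_snd _ _ _
  have key : ∀ v' : V, r v' ∈ Fam.Agree δP tP ↔ j v' ∈ Fam.Agree γ (δ.pull g) := by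
    intro v'
    obtain ⟨Ω, _, _, ζ, rfl⟩ := exists_geomPoint V v'
    have e1 : (ζ ≫ j) ≫ g ≫ b = (ζ ≫ k) ≫ U.hom := by
      rw [Category.assoc, Category.assoc, hk]
    have e2 : (ζ ≫ r) ≫ pY ≫ b = (ζ ≫ k) ≫ U.hom := by
      rw [← hP, Category.assoc, reassoc_of% hrU, Category.assoc]
    have m1 := Fam.mem_agree_iff γ (δ.pull g) (ζ ≫ j) _ e1
    have m2 := Fam.mem_agree_iff δP tP (ζ ≫ r) _ e2
    rw [Scheme.Hom.comp_apply] at m1 m2
    rw [m1, m2, ht ζ _ e1 rfl]
    have e3 : tP.val (ζ ≫ r) ((ζ ≫ k) ≫ U.hom) e2 = germ F (ζ ≫ k) rfl t := by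
      have h1 := Fam.congr_val ((Fam.ofSect t).pull pU) hP (ζ ≫ r) ((ζ ≫ k) ≫ U.hom) e2
      refine h1.trans ?_
      change germ F ((ζ ≫ r) ≫ pU) _ t = _
      congr 1
      rw [Category.assoc, hrU]
    have e4 : δP.val (ζ ≫ r) ((ζ ≫ k) ≫ U.hom) e2 =
        (δ.pull g).val (ζ ≫ j) ((ζ ≫ k) ≫ U.hom) e1 := by
      change δ.val _ _ _ = δ.val _ _ _
      exact δ.val_congr (by rw [Category.assoc, hrY, Category.assoc]) _ _ _
    rw [e3, e4]
    exact eq_comm
  have hqf : LocallyQuasiFinite pY := Groth.Agent.Sga4A.IntLift.locallyQuasiFinite_of_etale pY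
  obtain ⟨O, hO, hvO, hO'⟩ := exists_isOpen_fibre pY (r v)
  refine ⟨j '' (r ⁻¹' O), ?_, ⟨v, hvO, rfl⟩, ?_⟩
  · exact (AlgebraicGeometry.Scheme.Hom.isOpenMap j) _ (hO.preimage r.continuous)
  · rintro _ ⟨v', hv', rfl⟩ hs hA
    rw [← key] at hA hx
    have h1 : ∀ w : V, g (j w) = pY (r w) := fun w => by
      rw [← Scheme.Hom.comp_apply, ← Scheme.Hom.comp_apply, hrY]
    rw [h1, h1] at hs
    obtain ⟨u, hu, hu'⟩ := Flat.generalizingMap pY hs
    have h2 : u = r v := hO' u (hu.mem_open hO hv') hu'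
    subst h2
    exact hx (hu.mem_open (Fam.isOpen_Agree _ _) hA)

variable (hconn : ∀ (y : Y) (O : Set Y), IsOpen O → _root_.IsPreconnected (g ⁻¹' (closure {y} ∩ O)))

include hconn in
/-- The key dichotomy: the agreement locus is a union of fibres; and disagreement spreads out along the
closure of a point. -/
theorem agree_dichotomy [QuasiCompact g] (γ : Fam F (g ≫ b)) (δ : Fam F b) (y : Y) :
    (g ⁻¹' {y} ⊆ Fam.Agree γ (δ.pull g)) ∨
    ∃ O : Set Y, IsOpen O ∧ y ∈ O ∧ Disjoint (g ⁻¹' (closure {y} ∩ O)) (Fam.Agree γ (δ.pull g)) := by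
  set K := Fam.Agree γ (δ.pull g) with hK
  have hKo : IsOpen K := Fam.isOpen_Agree _ _
  let N₂ : Set X := ⋃₀ {N | IsOpen N ∧ ∀ x' ∈ N, y ⤳ g x' → x' ∉ K}
  have hN₂ : IsOpen N₂ := isOpen_sUnion fun N hN => hN.1
  have hN₂' : ∀ x' ∈ N₂, y ⤳ g x' → x' ∉ K := by
    rintro x' ⟨N, hN, hx'⟩
    exact hN.2 x' hx'
  have hfib : g ⁻¹' {y} ⊆ K ∪ N₂ := by
    rintro x rfl
    by_cases hx : x ∈ K
    · exact Or.inl hx
    · obtain ⟨N, hN, hxN, hN'⟩ := exists_nhd_not_agree g b γ δ x hx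
      exact Or.inr ⟨N, ⟨hN, hN'⟩, hxN⟩
  let C : Set X := (K ∪ N₂)ᶜ ∩ g ⁻¹' (closure {y})
  have hC : IsClosed C := (hKo.union hN₂).isClosed_compl.inter (isClosed_closure.preimage g.continuous)
  have hy : y ∉ closure (g '' C) := by
    intro h
    obtain ⟨x, hx, hxy⟩ := Grpsch.ClosureImage.exists_specializes_of_mem_closure_image g hC h
    have h1 : y ⤳ g x := specializes_iff_mem_closure.2 hx.2
    have h2 : g x = y := (hxy.antisymm h1).eq
    exact hx.1 (hfib h2)
  let O : Set Y := (closure (g '' C))ᶜ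
  have hO : IsOpen O := isClosed_closure.isOpen_compl
  have hcov : g ⁻¹' (closure {y} ∩ O) ⊆ K ∪ N₂ := by
    rintro x ⟨hx1, hx2⟩
    by_contra hx
    exact hx2 (subset_closure ⟨x, ⟨hx, hx1⟩, rfl⟩)
  have hdis : ∀ x ∈ g ⁻¹' (closure {y} ∩ O), x ∈ K → x ∈ N₂ → False := by
    rintro x ⟨hx1, hx2⟩ hxK hxN
    exact hN₂' x hxN (specializes_iff_mem_closure.2 hx1) hxK
  by_cases h : (g ⁻¹' (closure {y} ∩ O) ∩ K).Nonempty
  · left
    intro x hx
    rcases hfib hx with hxK | hxN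
    · exact hxK
    · exfalso
      have hxO : x ∈ g ⁻¹' (closure {y} ∩ O) := by
        have : g x = y := hx
        refine ⟨?_, ?_⟩
        · rw [this]; exact subset_closure rfl
        · rw [this]; exact hy
      obtain ⟨z, hz, hzK, hzN⟩ := hconn y O hO K N₂ hKo hN₂ hcov h ⟨x, hxO, hxN⟩
      exact hdis z hz hzK hzN
  · right
    refine ⟨O, hO, hy, ?_⟩
    rw [Set.disjoint_iff_inter_eq_empty]
    exact Set.not_nonempty_iff_eq_empty.1 h

include hconn in
/-- The set of points above which `γ` and `δ` agree is open. -/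
theorem isOpen_agree_base [QuasiCompact g] [Surjective g] (γ : Fam F (g ≫ b)) (δ : Fam F b) :
    IsOpen {y : Y | g ⁻¹' {y} ⊆ Fam.Agree γ (δ.pull g)} := by
  set K := Fam.Agree γ (δ.pull g) with hK
  have hKo : IsOpen K := Fam.isOpen_Agree _ _
  set T : Set Y := {y : Y | g ⁻¹' {y} ⊆ K} with hT
  have hTc : Tᶜ = g '' Kᶜ := by
    ext y
    constructor
    · intro hy
      rw [hT, Set.mem_compl_iff, Set.mem_ofPred_eq, Set.not_subset] at hy
      obtain ⟨x, hx, hxK⟩ := hy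
      exact ⟨x, hxK, hx⟩
    · rintro ⟨x, hx, rfl⟩ h
      exact hx (h rfl)
  rw [← isClosed_compl_iff, hTc]
  by_contra hcl
  have : ∃ p, p ∈ closure (g '' Kᶜ) ∧ p ∉ g '' Kᶜ := by
    by_contra hne
    push Not at hne
    exact hcl (isClosed_of_closure_subset fun p hp => hne p hp)
  obtain ⟨p, hp, hpT⟩ := this
  have hpT' : g ⁻¹' {p} ⊆ K := by
    rw [← hTc, Set.notMem_compl_iff] at hpT
    exact hpT
  obtain ⟨x₀, hx₀, hx₀p⟩ :=
    Grpsch.ClosureImage.exists_specializes_of_mem_closure_image g hKo.isClosed_compl hp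
  obtain ⟨v, ⟨hvp, xv, hxv, hxvv⟩, hvmax⟩ := exists_closed_point
    (isCompact_gen g hKo.isClosed_compl p) ⟨g x₀, hx₀p, x₀, hx₀, rfl⟩
  obtain ⟨O₁, hO₁, hvO₁, hdis⟩ : ∃ O : Set Y, IsOpen O ∧ v ∈ O ∧
      Disjoint (g ⁻¹' (closure {v} ∩ O)) K := by
    rcases agree_dichotomy g b hconn γ δ v with h | h
    · exact absurd (h hxvv) hxv
    · exact h
  let J : Set Y := closure {v} \ O₁
  have hJ : IsClosed J := isClosed_closure.sdiff hO₁
  have hpJ : p ∉ closure (g '' (Kᶜ ∩ g ⁻¹' J)) := by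
    intro h
    obtain ⟨x, ⟨hxK, hxJ⟩, hxp⟩ := Grpsch.ClosureImage.exists_specializes_of_mem_closure_image g
      (hKo.isClosed_compl.inter (hJ.preimage g.continuous)) h
    have h1 := hvmax (g x) ⟨hxp, x, hxK, rfl⟩ (specializes_iff_mem_closure.2 hxJ.1)
    exact hxJ.2 (h1 ▸ hvO₁)
  let O₂ : Set Y := (closure (g '' (Kᶜ ∩ g ⁻¹' J)))ᶜ
  have hO₂ : IsOpen O₂ := isClosed_closure.isOpen_compl
  have hcov : g ⁻¹' (closure {v} ∩ O₂) ⊆ g ⁻¹' O₁ ∪ K := by
    rintro x ⟨hx1, hx2⟩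
    by_cases hxO : g x ∈ O₁
    · exact Or.inl hxO
    · right
      by_contra hxK
      exact hx2 (subset_closure ⟨x, ⟨hxK, hx1, hxO⟩, rfl⟩)
  have hvO₂ : v ∈ O₂ := hvp.mem_open hO₂ hpJ
  obtain ⟨xp, hxp⟩ := g.surjective p
  obtain ⟨z, ⟨hz1, hz2⟩, hz3, hz4⟩ := hconn v O₂ hO₂ (g ⁻¹' O₁) K (hO₁.preimage g.continuous) hKo
    hcov ⟨xv, ⟨by rw [hxvv]; exact subset_closure rfl, by rw [hxvv]; exact hvO₂⟩,
      show g xv ∈ O₁ by rw [hxvv]; exact hvO₁⟩
    ⟨xp, ⟨by rw [hxp]; exact specializes_iff_mem_closure.1 hvp, by rw [hxp]; exact hpJ⟩,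
      hpT' hxp⟩
  exact Set.disjoint_left.1 hdis ⟨hz1, hz3⟩ hz4

end Agree

end Groth.Agent.Etbc.H230.Locus
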