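import Groth.Agent.Etbc.H230.Back
import Groth.Agent.Etbc.H230.Forth
import Mathlib.AlgebraicGeometry.IdealSheaf.Subscheme
import Mathlib.AlgebraicGeometry.Morphisms.Immersion
import Mathlib.Topology.LocallyConstant.Basic

/-!
# Testing surjectivity and connectedness on locally closed subschemes

`exists_immersion`: locally closed subsets are ranges of immersions. `surjective_of_comap_injective`,
`conn_of_comap_bijective`: from the test on locally constant functions after locally quasi-finite base changes.
-/

set_option autoImplicit false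
universe u

open CategoryTheory CategoryTheory.Limits AlgebraicGeometry Opposite

namespace Groth.Agent.Etbc.H230.Test

open EtDesc Groth.Agent.Sga4A.EtStalk Groth.Agent.Etbc.H230.Back

/-- A locally closed subset is the range of an immersion. -/
theorem exists_immersion (Y : Scheme.{u}) {Z O : Set Y} (hZ : IsClosed Z) (hO : IsOpen O) :
    ∃ (Y' : Scheme.{u}) (i : Y' ⟶ Y), IsImmersion i ∧ Set.range i = Z ∩ O := by
  let U : Y.Opens := ⟨O, hO⟩
  let I := Scheme.IdealSheafData.vanishingIdeal (X := Y) ⟨Z, hZ⟩
  have hI : Set.range I.subschemeι = Z := by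
    rw [Scheme.IdealSheafData.range_subschemeι]
    simp [I]
  refine ⟨(I.subschemeι ⁻¹ᵁ U).toScheme, (I.subschemeι ⁻¹ᵁ U).ι ≫ I.subschemeι, inferInstance, ?_⟩
  ext y
  constructor
  · rintro ⟨x, rfl⟩
    refine ⟨?_, ?_⟩
    · rw [← hI]
      exact ⟨(I.subschemeι ⁻¹ᵁ U).ι x, by rw [← Scheme.Hom.comp_apply]⟩
    · rw [Scheme.Hom.comp_apply]
      exact x.2
  · rintro ⟨hy, hyO⟩
    rw [← hI] at hy
    obtain ⟨x, rfl⟩ := hy
    refine ⟨⟨x, hyO⟩, ?_⟩
    rw [Scheme.Hom.comp_apply]
    rfl

theorem isPreconnected_closure_inter {T : Type*} [TopologicalSpace T] (y : T) {O : Set T}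
    (hO : IsOpen O) : _root_.IsPreconnected (closure {y} ∩ O) := by
  by_cases hy : y ∈ O
  · refine (isPreconnected_singleton (x := y)).subset_closure ?_ Set.inter_subset_left
    rintro _ rfl
    exact ⟨subset_closure rfl, hy⟩
  · have : closure {y} ∩ O = ∅ := by
      rw [Set.eq_empty_iff_forall_notMem]
      rintro w ⟨hw, hwO⟩
      exact hy ((specializes_iff_mem_closure.2 hw).mem_open hO hwO)
    rw [this]
    exact isPreconnected_empty

theorem preconnectedSpace_of_comap_surjective {A B : Type*} [TopologicalSpace A]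
    [TopologicalSpace B] [PreconnectedSpace B] (p : C(A, B)) (I : Type*) [Nontrivial I]
    (h : Function.Surjective (LocallyConstant.comap (Z := I) p)) : PreconnectedSpace A := by
  classical
  rw [preconnectedSpace_iff_clopen]
  intro s hs
  obtain ⟨a, b, hab⟩ := exists_pair_ne I
  let f : LocallyConstant A I := ⟨fun x => if x ∈ s then a else b, by
    rw [IsLocallyConstant.iff_exists_open]
    intro x
    by_cases hx : x ∈ s
    · exact ⟨s, hs.2, hx, fun y hy => by simp [hx, hy]⟩
    · exact ⟨sᶜ, hs.1.isOpen_compl, hx, fun y hy => by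
        have hy' : y ∉ s := hy
        simp [hx, hy']⟩⟩
  obtain ⟨f', hf'⟩ := h f
  by_contra hne
  push Not at hne
  obtain ⟨x₁, hx₁⟩ := hne.1
  obtain ⟨x₂, hx₂⟩ := (Set.ne_univ_iff_exists_notMem _).1 hne.2
  have h1 : f x₁ = a := if_pos hx₁
  have h2 : f x₂ = b := if_neg hx₂
  have h3 : f x₁ = f x₂ := by
    rw [← hf']
    exact f'.apply_eq_of_preconnectedSpace _ _
  exact hab (h1.symm.trans (h3.trans h2))

section Main

variable {X Y : Scheme.{u}} (g : X ⟶ Y) (I : Type u) [Nontrivial I]

/-- Injectivity on locally constant functions after base change by immersions implies surjectivity. -/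
theorem surjective_of_comap_injective [QuasiCompact g]
    (H : ∀ (Y' : Scheme.{u}) (i : Y' ⟶ Y) [IsImmersion i],
      Function.Injective (LocallyConstant.comap (Y := Y') (Z := I)
        (⟨pullback.snd g i, (pullback.snd g i).continuous⟩ : C(↥(pullback g i), Y')))) :
    Surjective g := by
  refine ⟨fun y => ?_⟩
  by_contra hy
  have hy' : y ∉ closure (g '' (g ⁻¹' (closure {y}))) := by
    intro h
    obtain ⟨x, hx, hxy⟩ := Grpsch.ClosureImage.exists_specializes_of_mem_closure_image g
      (isClosed_closure.preimage g.continuous) h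
    have h1 : y ⤳ g x := specializes_iff_mem_closure.2 hx
    exact hy ⟨x, (hxy.antisymm h1).eq⟩
  obtain ⟨Y', i, hi, hr⟩ := exists_immersion Y (isClosed_closure (s := {y}))
    (isClosed_closure (s := g '' (g ⁻¹' (closure {y})))).isOpen_compl
  obtain ⟨y', hy'i⟩ : y ∈ Set.range i := by
    rw [hr]; exact ⟨subset_closure rfl, hy'⟩
  have hemp : IsEmpty ↥(pullback g i) := by
    refine ⟨fun w => ?_⟩
    have h1 : g (pullback.fst g i w) = i (pullback.snd g i w) := by
      rw [← Scheme.Hom.comp_apply, ← Scheme.Hom.comp_apply, pullback.condition]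
    have h2 : g (pullback.fst g i w) ∈ Set.range i := ⟨_, h1.symm⟩
    rw [hr] at h2
    exact h2.2 (subset_closure ⟨_, h2.1, rfl⟩)
  obtain ⟨a, b, hab⟩ := exists_pair_ne I
  have h3 := H Y' i (a₁ := LocallyConstant.const Y' a) (a₂ := LocallyConstant.const Y' b) (by
    ext w
    exact hemp.elim w)
  exact hab (congrArg (fun (c : LocallyConstant Y' I) => c y') h3)

/-- Surjectivity on locally constant functions after locally quasi-finite base change implies `Conn`. -/
theorem conn_of_comap_surjective
    (H : ∀ (Y' : Scheme.{u}) (i : Y' ⟶ Y) [LocallyQuasiFinite i] [LocallyOfFiniteType i],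
      Function.Surjective (LocallyConstant.comap (Y := Y') (Z := I)
        (⟨pullback.snd g i, (pullback.snd g i).continuous⟩ : C(↥(pullback g i), Y')))) :
    Conn g := by
  intro X₁ Y₁ g₁ b' b sq hb y O hO
  obtain ⟨Y', i, hi, hr⟩ := exists_immersion Y₁ (isClosed_closure (s := {y})) hO
  have hpre : PreconnectedSpace Y' := by
    refine ⟨?_⟩
    rw [← i.isEmbedding.isInducing.isPreconnected_image, Set.image_univ, hr]
    exact isPreconnected_closure_inter y hO
  have hqf : LocallyQuasiFinite b := Groth.Agent.Sga4A.IntLift.locallyQuasiFinite_of_etale b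
  have h1 : PreconnectedSpace ↥(pullback g (i ≫ b)) :=
    preconnectedSpace_of_comap_surjective _ I (H Y' (i ≫ b))
  have sq₂ : IsPullback (pullback.fst g₁ i ≫ b') (pullback.snd g₁ i) g (i ≫ b) :=
    (IsPullback.of_hasPullback g₁ i).paste_horiz sq
  have h2 : PreconnectedSpace ↥(pullback g₁ i) :=
    (Scheme.homeoOfIso sq₂.isoPullback).symm.surjective.denseRange.preconnectedSpace
      (Scheme.homeoOfIso sq₂.isoPullback).symm.continuous
  have h3 : g₁ ⁻¹' (closure {y} ∩ O) = Set.range (pullback.fst g₁ i) := by
    rw [Scheme.Pullback.range_fst, hr]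
  rw [h3]
  exact isPreconnected_range (pullback.fst g₁ i).continuous

end Main

end Groth.Agent.Etbc.H230.Test
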